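import Groth.Agent.EtAdicLib.Hmap
import Groth.Agent.EtBCA.Comp
import Groth.Agent.HTop83.ConstIrr
import Groth.Agent.EtFound.PropPush

/-!
# Pullback on cohomology with constant coefficients, connectedness by sections
-/

set_option autoImplicit false

universe u

open CategoryTheory CategoryTheory.Limits AlgebraicGeometry Opposite CategoryTheory.Abelian

noncomputable section

namespace Groth.Agent.EtBCA.GeomFib

set_option backward.isDefEq.respectTransparency.types false

variable {X Y Z : Scheme.{u}} (M : Type) [AddCommGroup M]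

/-- pullback of classes with constant coefficients -/
def HC (f : X ⟶ Y) (n : ℕ) : EtCoh.H Y (EtCoh.const Y M) n →+ EtCoh.H X (EtCoh.const X M) n :=
  haveI := pullExact f
  AddMonoidHom.comp ((EtCoh.HF X n).map (EtCore.pullConst f M).hom).hom (EtCore.Hpull f (EtCoh.const Y M) n)

theorem HC_eq (f : X ⟶ Y) [PreservesFiniteLimits (EtCoh.pull f)] (n : ℕ) (x : EtCoh.H Y (EtCoh.const Y M) n) :
    HC M f n x = (EtCoh.HF X n).map (EtCore.pullConst f M).hom (EtCore.Hpull f (EtCoh.const Y M) n x) := rfl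

theorem HC_comp (k : X ⟶ Y) (t : Y ⟶ Z) (n : ℕ) (x : EtCoh.H Z (EtCoh.const Z M) n) :
    HC M (k ≫ t) n x = HC M k n (HC M t n x) := by
  haveI := pullExact k
  haveI := pullExact t
  haveI := pullExact (k ≫ t)
  rw [HC_eq, HC_eq, HC_eq, Hpull_natural, EtAdicLib.pullConst_comp_hom, Functor.map_comp, Functor.map_comp]
  exact congrArg (fun z => (EtCoh.HF X n).map (EtCore.pullConst k M).hom
    ((EtCoh.HF X n).map ((EtCoh.pull k).map (EtCore.pullConst t M).hom) z)) (Hpull_comp k t _ n x)

theorem HC_congr {f g : X ⟶ Y} (e : f = g) (n : ℕ) (x : EtCoh.H Y (EtCoh.const Y M) n) :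
    HC M f n x = HC M g n x := by subst e; rfl

theorem HC_bijective_of_isIso (f : X ⟶ Y) [IsIso f] (n : ℕ) : Function.Bijective (HC M f n) := by
  haveI := pullExact f
  exact (HF_map_bijective (EtCore.pullConst f M).hom n).comp (S0642.result f _ n)

/-- the constant classes in degree zero -/
def constClass (X : Scheme.{u}) (φ : AddCommGrpCat.of (ULift.{u + 1} ℤ) ⟶ AddCommGrpCat.of (ULift.{u + 1} M)) :
    EtCoh.H X (EtCoh.const X M) 0 :=
  Ext.mk₀ ((constantSheaf X.smallEtaleTopology AddCommGrpCat.{u + 1}).map φ)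

theorem HC_constClass (f : X ⟶ Y) (φ : AddCommGrpCat.of (ULift.{u + 1} ℤ) ⟶ AddCommGrpCat.of (ULift.{u + 1} M)) :
    HC M f 0 (constClass M Y φ) = constClass M X φ := by
  haveI := pullExact f
  rw [HC_eq, HF_map_apply, EtMVLib.Hpull_apply, constClass, Ext.mapExactFunctor_mk₀, Ext.mk₀_comp_mk₀]
  refine (Ext.mk₀_comp_mk₀ _ _).trans (congrArg Ext.mk₀ ?_)
  refine (Category.assoc _ _ _).trans ?_
  refine (congrArg (_ ≫ ·) ((EtCore.pullConstIso f).hom.naturality φ)).trans ?_
  exact (Category.assoc _ _ _).symm.trans ((congrArg (· ≫ _) (EtCore.pullConst f ℤ).inv_hom_id).trans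
    (Category.id_comp _))

theorem constAdj_unit_app (X : Scheme.{u}) (A : AddCommGrpCat.{u + 1}) :
    (EtCore.constAdj X).unit.app A = HTop83.constSec A (EtCoh.top X) := by
  simp [EtCore.constAdj, constantSheafAdj, constantPresheafAdj, HTop83.constSec]

theorem constClass_surjective_iff (X : Scheme.{u})
    (h : Function.Surjective (HTop83.constSec (X := X) (AddCommGrpCat.of (ULift.{u + 1} M)) (EtCoh.top X))) :
    Function.Surjective (constClass M X) := by
  intro x
  obtain ⟨ψ, rfl⟩ := (Ext.mk₀_bijective _ _).2 x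
  let s := (EtCore.constAdj X).homEquiv _ _ ψ
  obtain ⟨m, hm⟩ := h (s (ULift.up 1))
  refine ⟨AddCommGrpCat.ofHom ((zmultiplesHom _ m).comp AddEquiv.ulift.toAddMonoidHom), congrArg Ext.mk₀ ?_⟩
  apply ((EtCore.constAdj X).homEquiv _ _).injective
  rw [Adjunction.homEquiv_unit]
  refine (((EtCore.constAdj X).unit.naturality _).symm.trans ?_)
  rw [constAdj_unit_app]
  refine AddCommGrpCat.hom_ext ?_
  refine AddMonoidHom.ext fun a => ?_
  obtain ⟨a⟩ := a
  show HTop83.constSec _ _ (a • m) = s (ULift.up a)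
  rw [map_zsmul, hm, ← map_zsmul]
  exact congrArg _ (ULift.ext _ _ (by simp))

theorem constClass_surjective_irreducible (X : Scheme.{u}) [IrreducibleSpace X] :
    Function.Surjective (constClass M X) :=
  haveI : IrreducibleSpace (EtCoh.top X).left := ‹IrreducibleSpace X›
  constClass_surjective_iff M X (HTop83.bijective_of_constBy _ _ (HTop83.constBy_constSec _ _)).2

theorem constClass_eq_zero_of_isEmpty (X : Scheme.{u}) [IsEmpty X]
    (φ : AddCommGrpCat.of (ULift.{u + 1} ℤ) ⟶ AddCommGrpCat.of (ULift.{u + 1} M)) : constClass M X φ = 0 := by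
  haveI : IsEmpty (EtCoh.top X).left := ‹IsEmpty X›
  haveI := EtFound.subsingleton_sections_of_isEmpty (EtCoh.const X M) (EtCoh.top X)
  exact (Sheaf.H.equiv₀ (EtCoh.const X M) (EtCore.topIsTerminal X)).injective (Subsingleton.elim _ _)

theorem constClass_injective (X : Scheme.{u}) [Nonempty X] : Function.Injective (constClass M X) := by
  intro φ φ' h
  have h' := congrArg ((EtCore.constAdj X).homEquiv _ _) ((Ext.mk₀_bijective _ _).1 h)
  rw [Adjunction.homEquiv_unit, Adjunction.homEquiv_unit] at h'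
  have h'' := ((EtCore.constAdj X).unit.naturality φ).trans (h'.trans ((EtCore.constAdj X).unit.naturality φ').symm)
  rw [constAdj_unit_app] at h''
  refine AddCommGrpCat.hom_ext (AddMonoidHom.ext fun a => ?_)
  obtain ⟨Ω, _, _, ξ, z, -⟩ := EtFound.exists_algClosed_point (EtCoh.top X) (Classical.arbitrary X)
  refine (HTop83.constBy_constSec (AddCommGrpCat.of (ULift.{u + 1} M)) (EtCoh.top X) Ω ξ z).1 ?_
  rw [ConcreteCategory.comp_apply, ConcreteCategory.comp_apply]
  exact congrArg _ (ConcreteCategory.congr_hom h'' a)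

/-- connectedness from the surjectivity of the constants -/
theorem connectedSpace_of_constClass [Nontrivial M] (X : Scheme.{u}) [Nonempty X]
    (h : Function.Surjective (constClass M X)) : ConnectedSpace X := by
  classical
  refine { toPreconnectedSpace := preconnectedSpace_iff_clopen.2 fun U hU => ?_, toNonempty := ‹_› }
  by_contra hne
  obtain ⟨hne₀, hne₁⟩ := not_or.1 hne
  obtain ⟨x₀, hx₀⟩ := Set.nonempty_iff_ne_empty.2 hne₀
  obtain ⟨x₁, hx₁⟩ := (Set.ne_univ_iff_exists_notMem U).1 hne₁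
  obtain ⟨m₀, m₁, hm⟩ := exists_pair_ne (ULift.{u + 1} M)
  let T := EtCoh.top X
  let O : ULift.{u} Bool → T.left.Opens := fun b =>
    if b.down then ⟨U, hU.2⟩ else ⟨Uᶜ, hU.1.isOpen_compl⟩
  let A := AddCommGrpCat.of (ULift.{u + 1} M)
  obtain ⟨s, hs⟩ := EtFound.exists_glue_disjoint (EtCoh.const X M) T O (fun a b hab => by
      obtain ⟨a⟩ := a; obtain ⟨b⟩ := b
      cases a <;> cases b <;> first
        | exact absurd rfl hab
        | exact disjoint_iff.2 (TopologicalSpace.Opens.ext (by simp [O]))) (by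
      refine TopologicalSpace.Opens.ext (Set.eq_univ_of_forall fun x => ?_)
      rw [TopologicalSpace.Opens.coe_iSup, Set.mem_iUnion]
      by_cases hx : x ∈ U
      · exact ⟨⟨true⟩, hx⟩
      · exact ⟨⟨false⟩, hx⟩)
    (fun b => HTop83.constSec A _ (if b.down then m₀ else m₁))
  obtain ⟨φ, hφ⟩ := h ((Sheaf.H.equiv₀ (EtCoh.const X M) (EtCore.topIsTerminal X)).symm s)
  have hs' : s = HTop83.constSec A T (φ (ULift.up 1)) := by
    have e := congrArg (Sheaf.H.equiv₀ (EtCoh.const X M) (EtCore.topIsTerminal X)) hφ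
    rw [AddEquiv.apply_symm_apply] at e
    rw [← e]
    have e2 : ((EtCore.constAdj X).homEquiv _ _ ((constantSheaf X.smallEtaleTopology AddCommGrpCat.{u + 1}).map φ)) =
        φ ≫ HTop83.constSec A T := by
      rw [Adjunction.homEquiv_unit, ← constAdj_unit_app]
      exact ((EtCore.constAdj X).unit.naturality φ).symm
    refine Eq.trans ?_ (ConcreteCategory.congr_hom e2 (ULift.up 1))
    have h1 : Ext.addEquiv₀ (constClass M X φ) = (constantSheaf X.smallEtaleTopology AddCommGrpCat.{u + 1}).map φ :=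
      (Ext.mk₀_bijective _ _).1 (Ext.mk₀_addEquiv₀_apply _)
    show AddCommGrpCat.uliftZMultiplesAddEquiv _ (((EtCore.constAdj X).homAddEquiv _ _) (Ext.addEquiv₀ (constClass M X φ))) = _
    rw [h1]
    show _ = (((EtCore.constAdj X).homAddEquiv _ _) ((constantSheaf X.smallEtaleTopology AddCommGrpCat.{u + 1}).map φ))
      (ULift.up 1)
    generalize ((EtCore.constAdj X).homAddEquiv _ _) ((constantSheaf X.smallEtaleTopology AddCommGrpCat.{u + 1}).map φ) = ψ
    obtain ⟨g, hg⟩ := (AddCommGrpCat.uliftZMultiplesAddEquiv _).symm.surjective ψ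
    rw [← hg, AddEquiv.apply_symm_apply]
    exact (one_zsmul g).symm
  have key : ∀ b : ULift.{u} Bool, (∃ x, x ∈ O b) → φ (ULift.up 1) = if b.down then m₀ else m₁ := by
    intro b ⟨x, hx⟩
    obtain ⟨Ω, _, _, ξ, z, -⟩ := EtFound.exists_algClosed_point (EtFound.restrictEtale T (O b)) (⟨x, hx⟩ : (O b).toScheme)
    refine (HTop83.constBy_constSec A (EtFound.restrictEtale T (O b)) Ω ξ z).1 ?_
    rw [ConcreteCategory.comp_apply, ConcreteCategory.comp_apply]
    refine congrArg _ (Eq.trans ?_ (hs b))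
    rw [hs']
    exact (ConcreteCategory.congr_hom (HTop83.constSec_map A (EtFound.restrictEtaleHom T (O b))) (φ (ULift.up 1))).symm.trans
      (ConcreteCategory.comp_apply _ _ _)
  have k₀ := key ⟨true⟩ ⟨x₀, hx₀⟩
  have k₁ := key ⟨false⟩ ⟨x₁, hx₁⟩
  exact hm (by simpa using k₀.symm.trans k₁)

end Groth.Agent.EtBCA.GeomFib
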