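import Groth.Agent.EtBCA.GeomFib.Tower
import Groth.Agent.EtBCA.BCQ.IntegralLeft
import Groth.Agent.EtBCA.Efface
import Groth.Agent.S8537
import Groth.Agent.S0073
import Groth.Agent.Hensel.Henselization

/-!
# Geometric fibres of acyclic morphisms
-/

set_option autoImplicit false
set_option linter.style.haveILetI false

universe u

open CategoryTheory CategoryTheory.Limits AlgebraicGeometry Opposite

noncomputable section

namespace Groth.Agent.EtBCA.GeomFib

set_option backward.isDefEq.respectTransparency.types false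

theorem nsmul_id_const (X : Scheme.{u}) (ℓ : ℕ) : ℓ • 𝟙 (EtCoh.const X (ZMod ℓ)) = 0 := by
  haveI : (constantSheaf X.smallEtaleTopology AddCommGrpCat.{u + 1}).Additive :=
    haveI : (EtCore.gsec X).Additive := ⟨fun {F G f g} => rfl⟩
    (EtCore.constAdj X).left_adjoint_additive
  have h : ℓ • 𝟙 (AddCommGrpCat.of (ULift.{u + 1} (ZMod ℓ))) = 0 := by
    apply AddCommGrpCat.hom_ext
    refine AddMonoidHom.ext fun z => ?_
    show (ℓ • 𝟙 (AddCommGrpCat.of (ULift.{u + 1} (ZMod ℓ)))) z = 0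
    simp
  have e := congrArg (constantSheaf X.smallEtaleTopology AddCommGrpCat.{u + 1}).map h
  rw [Functor.map_nsmul, CategoryTheory.Functor.map_id, Functor.map_zero] at e
  exact e

theorem isLTorsion_const {L : Set ℕ} {ℓ : ℕ} (hℓ : ℓ.Prime) (hℓL : ℓ ∈ L) (X : Scheme.{u}) :
    EtAcyc.IsLTorsion L (EtCoh.const X (ZMod ℓ)) :=
  isLTorsion_of_nsmul_id_eq_zero
    (⟨hℓ.pos, fun p hp hpd => (Nat.prime_dvd_prime_iff_eq hp hℓ).1 hpd ▸ hℓL⟩ : EtAcyc.PrimesIn L ℓ)
    (nsmul_id_const X ℓ)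

variable {X Y : Scheme.{u}} (g : X ⟶ Y) {L : Set ℕ} {n : ℕ}

theorem compactSpace_pullback [QuasiCompact g] {A : Scheme.{u}} [CompactSpace A] (a : A ⟶ Y) :
    CompactSpace ↥(pullback a g) := QuasiCompact.compactSpace_of_compactSpace (pullback.fst a g)

theorem quasiSeparatedSpace_pullback [QuasiSeparated g] {A : Scheme.{u}} [QuasiSeparatedSpace A] (a : A ⟶ Y) :
    QuasiSeparatedSpace ↥(pullback a g) := quasiSeparatedSpace_of_quasiSeparated (pullback.fst a g)

/-- the square over a morphism of bases -/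
theorem isPullback_map_fst {A B : Scheme.{u}} (a : A ⟶ Y) (b : B ⟶ Y) (m : A ⟶ B) (hm : m ≫ b = a)
    (h : pullback a g ⟶ pullback b g) (h₁ : h ≫ pullback.fst b g = pullback.fst a g ≫ m)
    (h₂ : h ≫ pullback.snd b g = pullback.snd a g) :
    IsPullback h (pullback.fst a g) (pullback.fst b g) m := by
  subst hm
  refine IsPullback.of_right (v₁₃ := g) (h₁₂ := pullback.snd b g) (h₂₂ := b) ?_ h₁
    (IsPullback.of_hasPullback b g).flip
  rw [h₂]
  exact (IsPullback.of_hasPullback (m ≫ b) g).flip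

/-- the comparison condition on an integral scheme over an affine open -/
theorem compN_of_integral [QuasiCompact g] [QuasiSeparated g] (hg : EtAcyc.IsAcyclicN g L n)
    {A B : CommRingCat.{u}} (jV : Spec A ⟶ Y) [IsOpenImmersion jV] (ψ : A ⟶ B) (hψ : ψ.hom.IsIntegral)
    (t : Spec B ⟶ Y) (ht : Spec.map ψ ≫ jV = t) :
    EtAcyc.CompN (pullback.fst t g) L n := by
  subst ht
  haveI : IsIntegralHom (Spec.map ψ) := IsIntegralHom.SpecMap_iff.2 hψ
  haveI : AlgebraicGeometry.Etale jV := inferInstance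
  let V : Y.Etale := Scheme.Etale.mk jV
  let pY : pullback (Spec.map ψ ≫ jV) g ⟶ pullback jV g :=
    pullback.map _ _ _ _ (Spec.map ψ) (𝟙 _) (𝟙 _) (by simp) (by simp)
  have sq := (isPullback_map_fst g _ jV (Spec.map ψ) rfl pY (pullback.lift_fst _ _ _)
    ((pullback.lift_snd _ _ _).trans (Category.comp_id _))).flip
  haveI : CompactSpace ↥(pullback jV g) := QuasiCompact.compactSpace_of_compactSpace (pullback.fst jV g)
  haveI : QuasiSeparatedSpace ↥(pullback jV g) := quasiSeparatedSpace_of_quasiSeparated (pullback.fst jV g)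
  haveI := pullExact (pullback.fst (Spec.map ψ ≫ jV) g)
  refine S8537.result (pullback.fst jV g) (Spec.map ψ) (pullback.fst (Spec.map ψ ≫ jV) g) pY sq L n (hg V)
    fun F _ => ⟨fun i _ => BCQ.isIso_bcQ_integral sq i F, ?_⟩
  have := BCQ.isIso_bcQ_integral sq (n + 1) F
  infer_instance

theorem HC_bijective_of_compN {ℓ : ℕ} (hℓ : ℓ.Prime) (hℓL : ℓ ∈ L) {P Q : Scheme.{u}} (h : P ⟶ Q)
    (hc : EtAcyc.CompN h L n) (q : ℕ) (hq : q ≤ n) : Function.Bijective (HC (ZMod ℓ) h q) := by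
  haveI := pullExact h
  exact (HF_map_bijective (EtCore.pullConst h (ZMod ℓ)).hom q).comp
    ((hc _ (isLTorsion_const hℓ hℓL Q)).1 q hq)

theorem isAcyclicScheme_of_iso {P Q : Scheme.{u}} (e : P ≅ Q) (h : EtAcyc.IsAcyclicSchemeN L n Q) :
    EtAcyc.IsAcyclicSchemeN L n P := by
  obtain ⟨h1, h2, h3⟩ := h
  refine ⟨h1.map e.inv.base, ?_, fun ℓ hℓ hℓL q h1q hqn => ?_⟩
  · haveI := h2
    exact e.inv.homeomorph.surjective.connectedSpace e.inv.homeomorph.continuous
  · haveI := h3 ℓ hℓ hℓL q h1q hqn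
    exact (HC_bijective_of_isIso (ZMod ℓ) e.inv q).1.subsingleton

theorem subsingleton_H_sepClosed (Ω : Type u) [Field Ω] [IsSepClosed Ω] (F : EtCoh.Ab (Spec (CommRingCat.of Ω)))
    (q : ℕ) (hq : 1 ≤ q) : Subsingleton (EtCoh.H (Spec (CommRingCat.of Ω)) F q) := by
  haveI : IsSepClosed (IsLocalRing.ResidueField Ω) := Hensel.isSepClosed_of_ringEquiv
    (RingEquiv.ofBijective (IsLocalRing.residue Ω)
      ⟨(IsLocalRing.residue Ω).injective, IsLocalRing.residue_surjective⟩)
  exact S0073.result Ω F q hq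

/-- the geometric fibre over a point of an affine open -/
theorem acyclic_fibre_affine [QuasiCompact g] [QuasiSeparated g] (hL : ∃ ℓ ∈ L, ℓ.Prime)
    (hg : EtAcyc.IsAcyclicN g L n) {R : CommRingCat.{u}} (jR : Spec R ⟶ Y) [IsOpenImmersion jR]
    (Ω : Type u) [Field Ω] [IsSepClosed Ω] [Algebra R Ω]
    (κ : Type u) [Field κ] [Algebra κ Ω] [Algebra.IsAlgebraic κ Ω] (ψ : R →+* κ)
    (hψ : ∀ r, algebraMap κ Ω (ψ r) = algebraMap R Ω r)
    (hfrac : ∀ k : κ, ∃ r s : R, ψ s ≠ 0 ∧ k = ψ r / ψ s) :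
    EtAcyc.IsAcyclicSchemeN L n
      (pullback (Spec.map (CommRingCat.ofHom (algebraMap R Ω)) ≫ jR) g) := by
  obtain ⟨ℓ, hℓL, hℓ⟩ := hL
  haveI : Fact (1 < ℓ) := ⟨hℓ.one_lt⟩
  let A := {a : R // algebraMap R Ω a ≠ 0}
  let B : A → Subalgebra R Ω := fun a => towerStage a.1
  let one : A := ⟨1, by rw [map_one]; exact one_ne_zero⟩
  obtain ⟨hcol⟩ := LimMor.nonempty_isColimit_subCocone B directed_towerStage
    (exists_mem_towerStage ψ hψ hfrac)
  haveI : IsDirectedOrder (LimMor.SubIdx B) := ⟨fun i j => directed_towerStage i j⟩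
  haveI : Nonempty (LimMor.SubIdx B) := ⟨one⟩
  let S := (LimMor.subSys B).op ⋙ Scheme.Spec
  let cS := Scheme.Spec.mapCone (LimMor.subCocone B).op
  let hcS : IsLimit cS := isLimitOfPreserves Scheme.Spec hcol.op
  let D : (LimMor.SubIdx B)ᵒᵖ ⥤ Over Y :=
    { obj := fun i => Over.mk (Spec.map (CommRingCat.ofHom (algebraMap R (B i.unop))) ≫ jR)
      map := fun {i k} m => Over.homMk (S.map m) (by
        refine (Category.assoc _ _ _).symm.trans (congrArg (· ≫ jR) ?_)
        exact (Spec.map_comp _ _).symm.trans (congrArg Spec.map (CommRingCat.hom_ext (RingHom.ext fun x => rfl))))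
      map_id := fun i => Over.OverMorphism.ext (S.map_id i)
      map_comp := fun a b => Over.OverMorphism.ext (S.map_comp a b) }
  let cD : Cone D :=
    { pt := Over.mk (Spec.map (CommRingCat.ofHom (algebraMap R Ω)) ≫ jR)
      π :=
        { app := fun i => Over.homMk (cS.π.app i) (by
            refine (Category.assoc _ _ _).symm.trans (congrArg (· ≫ jR) ?_)
            exact (Spec.map_comp _ _).symm.trans (congrArg Spec.map (CommRingCat.hom_ext (RingHom.ext fun x => rfl))))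
          naturality := fun i k m => Over.OverMorphism.ext (cS.π.naturality m) } }
  let hcD : IsLimit ((Over.forget Y).mapCone cD) :=
    hcS.ofIsoLimit (Cone.ext (Iso.refl _) fun i => (Category.id_comp _).symm)
  haveI : IsConnected (LimMor.SubIdx B)ᵒᵖ := IsCofiltered.isConnected _
  let P := D ⋙ Over.pullback g ⋙ Over.forget X
  let cP : Cone P := (Over.forget X).mapCone ((Over.pullback g).mapCone cD)
  let hcP : IsLimit cP :=
    isLimitOfPreserves (Over.forget X) (isLimitOfPreserves (Over.pullback g) (isLimitOfReflects (Over.forget Y) hcD))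
  let h : ∀ i, P.obj i ⟶ S.obj i := fun i => pullback.fst _ g
  let hΩ : cP.pt ⟶ Spec (CommRingCat.of Ω) := pullback.fst _ g
  have hnat : ∀ i, cP.π.app i ≫ h i = hΩ ≫ cS.π.app i := fun i => pullback.lift_fst _ _ _
  have hcomp : ∀ i, EtAcyc.CompN (h i) L n := fun i => by
    let a : A := i.unop
    haveI : IsOpenImmersion (Spec.map (CommRingCat.ofHom (algebraMap R (Localization.Away a.1)))) :=
      IsOpenImmersion.of_isLocalization a.1
    refine compN_of_integral g hg
      (Spec.map (CommRingCat.ofHom (algebraMap R (Localization.Away a.1))) ≫ jR)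
      (CommRingCat.ofHom (locMap a)) (locMap_isIntegral a) _ ?_
    refine (Category.assoc _ _ _).symm.trans (congrArg (· ≫ jR) ?_)
    exact (Spec.map_comp _ _).symm.trans (congrArg Spec.map
      (CommRingCat.hom_ext (RingHom.ext fun x => locMap_algebraMap a x)))
  have hPqc : ∀ i, CompactSpace ↥(P.obj i) := fun i =>
    compactSpace_pullback g (A := Spec (CommRingCat.of (B i.unop)))
      (Spec.map (CommRingCat.ofHom (algebraMap R (B i.unop))) ≫ jR)
  have hPqs : ∀ i, QuasiSeparatedSpace ↥(P.obj i) := fun i =>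
    quasiSeparatedSpace_pullback g (A := Spec (CommRingCat.of (B i.unop)))
      (Spec.map (CommRingCat.ofHom (algebraMap R (B i.unop))) ≫ jR)
  have hPaff : ∀ ⦃i k : (LimMor.SubIdx B)ᵒᵖ⦄ (m : i ⟶ k), IsAffineHom (P.map m) := fun i k m => by
    haveI : IsAffineHom (S.map m) := isAffineHom_of_isAffine (Spec.map _)
    have sq : IsPullback (P.map m) (h i) (h k) (S.map m) :=
      isPullback_map_fst g (D.obj i).hom (D.obj k).hom (S.map m) (Over.w (D.map m)) (P.map m)
        (pullback.lift_fst _ _ _) (pullback.lift_snd _ _ _)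
    exact MorphismProperty.of_isPullback sq.flip ‹IsAffineHom (S.map m)›
  -- classes on the fibre come from the point
  have hsurj : ∀ (m : ℕ), m.Prime → m ∈ L → ∀ q, q ≤ n → Function.Surjective (HC (ZMod m) hΩ q) := by
    intro m hm hmL q hq ξ
    obtain ⟨j, x, rfl⟩ := exists_HC (ZMod m) P hPaff hPqc hPqs cP hcP one q ξ
    obtain ⟨η, rfl⟩ := (HC_bijective_of_compN hm hmL (h (op j)) (hcomp _) q hq).2 x
    refine ⟨HC (ZMod m) (cS.π.app (op j)) q η, ?_⟩
    exact (HC_comp (ZMod m) hΩ (cS.π.app (op j)) q η).symm.trans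
      ((HC_congr (ZMod m) (hnat (op j)) q η).symm.trans (HC_comp (ZMod m) (cP.π.app (op j)) (h (op j)) q η))
  -- the stages are not empty
  have hne : ∀ i, Nonempty ↥(P.obj i) := fun i => by
    by_contra hE
    rw [not_nonempty_iff] at hE
    haveI : Nonempty ↥(S.obj i) := inferInstanceAs (Nonempty ↥(Spec (CommRingCat.of (B i.unop))))
    let φ : AddCommGrpCat.of (ULift.{u + 1} ℤ) ⟶ AddCommGrpCat.of (ULift.{u + 1} (ZMod ℓ)) :=
      AddCommGrpCat.ofHom (AddEquiv.ulift.symm.toAddMonoidHom.comp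
        ((Int.castAddHom (ZMod ℓ)).comp AddEquiv.ulift.toAddMonoidHom))
    have h0 : ∀ ψ', constClass (ZMod ℓ) (P.obj i) ψ' = 0 := fun ψ' => constClass_eq_zero_of_isEmpty _ _ ψ'
    have e : constClass (ZMod ℓ) (S.obj i) φ = constClass (ZMod ℓ) (S.obj i) 0 := by
      refine (HC_bijective_of_compN hℓ hℓL (h i) (hcomp i) 0 (Nat.zero_le n)).1 ?_
      rw [HC_constClass, HC_constClass, h0, h0]
    have e1 := congrArg ULift.down (ConcreteCategory.congr_hom (constClass_injective _ _ e) (ULift.up 1))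
    have e2 : ((1 : ℤ) : ZMod ℓ) = 0 := e1
    rw [Int.cast_one] at e2
    exact one_ne_zero e2
  haveI : ∀ {i k : (LimMor.SubIdx B)ᵒᵖ} (m : i ⟶ k), IsAffineHom (P.map m) := fun m => hPaff m
  haveI hne' : Nonempty ↥cP.pt := Scheme.nonempty_of_isLimit P cP hcP
  refine ⟨hne', ?_, fun m hm hmL q hq hqn => ?_⟩
  · refine connectedSpace_of_constClass (ZMod ℓ) cP.pt fun x => ?_
    obtain ⟨η, rfl⟩ := hsurj ℓ hℓ hℓL 0 (Nat.zero_le n) x
    obtain ⟨φ, rfl⟩ := constClass_surjective_irreducible (ZMod ℓ) (Spec (CommRingCat.of Ω)) η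
    exact ⟨φ, (HC_constClass (ZMod ℓ) hΩ φ).symm⟩
  · haveI := subsingleton_H_sepClosed Ω (EtCoh.const _ (ZMod m)) q hq
    exact (hsurj m hm hmL q hqn).subsingleton

/-- geometric fibres of an acyclic morphism are acyclic -/
theorem geomFibres_of_isAcyclicN [QuasiCompact g] [QuasiSeparated g] (hL : ∃ ℓ ∈ L, ℓ.Prime)
    (hg : EtAcyc.IsAcyclicN g L n) : EtAcyc.GeomFibresAcyclicN L n g := by
  intro y Ω _ _ _ _
  obtain ⟨V, hV, hy, -⟩ := exists_isAffineOpen_mem_and_subset (x := y) (U := ⊤) trivial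
  let ψ : Γ(Y, V) →+* Y.residueField y := (Y.presheaf.germ V y hy ≫ Y.residue y).hom
  letI : Algebra Γ(Y, V) Ω := ((algebraMap (Y.residueField y) Ω).comp ψ).toAlgebra
  letI := TopCat.Presheaf.algebra_section_stalk Y.presheaf (⟨y, hy⟩ : V)
  haveI := hV.isLocalization_stalk ⟨y, hy⟩
  have hfrac : ∀ k : Y.residueField y, ∃ r s : Γ(Y, V), ψ s ≠ 0 ∧ k = ψ r / ψ s := fun k => by
    obtain ⟨z, rfl⟩ := Y.residue_surjective y k
    obtain ⟨r, s, rfl⟩ := IsLocalization.exists_mk'_eq (hV.primeIdealOf ⟨y, hy⟩).asIdeal.primeCompl z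
    have hu : IsUnit (Y.residue y (Y.presheaf.germ V y hy s.1)) :=
      (IsLocalization.map_units (Y.presheaf.stalk y) s).map (Y.residue y).hom
    refine ⟨r, s.1, hu.ne_zero, ?_⟩
    refine (eq_div_iff hu.ne_zero).2 ?_
    show Y.residue y _ * Y.residue y (Y.presheaf.germ V y hy s.1) = Y.residue y (Y.presheaf.germ V y hy r)
    rw [← map_mul]
    exact congrArg _ (IsLocalization.mk'_spec (Y.presheaf.stalk y) r s)
  have h := acyclic_fibre_affine g hL hg hV.fromSpec Ω (Y.residueField y) ψ (fun _ => rfl) hfrac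
  have e : EtAcyc.geomPt Y y Ω = Spec.map (CommRingCat.ofHom (algebraMap Γ(Y, V) Ω)) ≫ hV.fromSpec := by
    rw [EtAcyc.geomPt, Scheme.fromSpecResidueField, ← hV.fromSpecStalk_eq_fromSpecStalk hy, IsAffineOpen.fromSpecStalk,
      ← Spec.map_comp_assoc, ← Spec.map_comp_assoc]
    rfl
  exact isAcyclicScheme_of_iso (pullbackSymmetry g _ ≪≫ pullback.congrHom e rfl) h

end Groth.Agent.EtBCA.GeomFib
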