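import Groth.Agent.LimMor.SubalgUnion
import Groth.Agent.EtBCA.GeomFib.HC
import Groth.Agent.S0646
import Groth.Agent.EtBCA.Descent

/-!
# The tower of integral algebras below a geometric point, and the limit of constant classes
-/

set_option autoImplicit false

universe u

open CategoryTheory CategoryTheory.Limits AlgebraicGeometry Opposite

noncomputable section

namespace Groth.Agent.EtBCA.GeomFib

section Rings

variable {R Ω : Type u} [CommRing R] [Field Ω] [Algebra R Ω]

/-- the image of `R` localised at `a` -/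
def locImage (a : R) : Subalgebra R Ω := Algebra.adjoin R {(algebraMap R Ω a)⁻¹}

/-- elements integral over the localised image -/
def towerStage (a : R) : Subalgebra R Ω := (integralClosure (locImage (Ω := Ω) a) Ω).restrictScalars R

theorem mem_towerStage {a : R} {x : Ω} :
    x ∈ towerStage a ↔ IsIntegral (locImage (Ω := Ω) a) x := Iff.rfl

theorem locImage_le_towerStage (a : R) : locImage (Ω := Ω) a ≤ towerStage a := fun x hx =>
  mem_towerStage.2 (isIntegral_algebraMap (A := Ω) (x := (⟨x, hx⟩ : locImage a)))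

theorem locImage_mono {a b : R} (hb : algebraMap R Ω b ≠ 0) (h : a ∣ b) :
    locImage (Ω := Ω) a ≤ locImage b := by
  refine Algebra.adjoin_le (Set.singleton_subset_iff.2 ?_)
  obtain ⟨c, rfl⟩ := h
  rw [map_mul] at hb
  have e : (algebraMap R Ω a)⁻¹ = algebraMap R Ω c * (algebraMap R Ω (a * c))⁻¹ := by
    rw [map_mul]
    field_simp [(mul_ne_zero_iff.1 hb).1, (mul_ne_zero_iff.1 hb).2]
  rw [SetLike.mem_coe, e]
  exact mul_mem (Subalgebra.algebraMap_mem _ c) (Algebra.subset_adjoin rfl)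

theorem towerStage_mono {a b : R} (hb : algebraMap R Ω b ≠ 0) (h : a ∣ b) :
    towerStage (Ω := Ω) a ≤ towerStage b := fun x hx => by
  obtain ⟨p, hp, hpx⟩ := mem_towerStage.1 hx
  refine mem_towerStage.2 ⟨p.map (Subalgebra.inclusion (locImage_mono hb h)).toRingHom, hp.map _, ?_⟩
  rw [Polynomial.eval₂_map]
  exact hpx

theorem directed_towerStage : Directed (· ≤ ·)
    fun a : {a : R // algebraMap R Ω a ≠ 0} => towerStage (Ω := Ω) a.1 := fun a b =>
  have hab : algebraMap R Ω (a.1 * b.1) ≠ 0 := by rw [map_mul]; exact mul_ne_zero a.2 b.2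
  ⟨⟨a.1 * b.1, hab⟩, towerStage_mono hab (dvd_mul_right _ _), towerStage_mono hab (dvd_mul_left _ _)⟩

/-- the stages exhaust an algebraic extension of the field of fractions of the image -/
theorem exists_mem_towerStage {κ : Type u} [Field κ] [Algebra κ Ω] [Algebra.IsAlgebraic κ Ω]
    (ψ : R →+* κ) (hψ : ∀ r, algebraMap κ Ω (ψ r) = algebraMap R Ω r)
    (hfrac : ∀ k : κ, ∃ r s : R, ψ s ≠ 0 ∧ k = ψ r / ψ s) (x : Ω) :
    ∃ a : {a : R // algebraMap R Ω a ≠ 0}, x ∈ towerStage (Ω := Ω) a.1 := by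
  classical
  obtain ⟨p, hp, hpx⟩ := Algebra.IsIntegral.isIntegral (R := κ) x
  choose num den hden hk using fun i => hfrac (p.coeff i)
  let a := ∏ i ∈ p.support, den i
  have hd : ∀ i, algebraMap R Ω (den i) ≠ 0 := fun i => by
    rw [← hψ]; exact (map_ne_zero _).2 (hden i)
  have ha : algebraMap R Ω a ≠ 0 := by
    rw [map_prod]; exact Finset.prod_ne_zero_iff.2 fun i _ => hd i
  refine ⟨⟨a, ha⟩, mem_towerStage.2 ?_⟩
  have hl : p.map (algebraMap κ Ω) ∈ Polynomial.lifts (algebraMap (locImage (Ω := Ω) a) Ω) := by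
    rw [Polynomial.lifts_iff_coeff_lifts]
    intro i
    rw [Polynomial.coeff_map]
    by_cases hi : i ∈ p.support
    · refine ⟨⟨_, ?_⟩, rfl⟩
      show algebraMap κ Ω (p.coeff i) ∈ _
      rw [hk i, map_div₀, hψ, hψ, div_eq_mul_inv]
      refine mul_mem (Subalgebra.algebraMap_mem _ _) ?_
      exact locImage_mono ha (Finset.dvd_prod_of_mem _ hi) (Algebra.subset_adjoin rfl)
    · exact ⟨0, by rw [map_zero, Polynomial.notMem_support_iff.1 hi, map_zero]⟩
  obtain ⟨q, hq, -, hqm⟩ := Polynomial.lifts_and_degree_eq_and_monic hl (hp.map _)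
  refine ⟨q, hqm, ?_⟩
  rw [← Polynomial.eval_map, hq, Polynomial.eval_map, hpx]

/-- the canonical map from a localisation -/
def locMap (a : {a : R // algebraMap R Ω a ≠ 0}) : Localization.Away a.1 →+* towerStage (Ω := Ω) a.1 :=
  IsLocalization.Away.lift a.1 (g := algebraMap R (towerStage (Ω := Ω) a.1))
    (IsUnit.of_mul_eq_one ⟨(algebraMap R Ω a.1)⁻¹, locImage_le_towerStage a.1 (Algebra.subset_adjoin rfl)⟩
      (Subtype.ext (mul_inv_cancel₀ a.2)))

theorem locMap_algebraMap (a : {a : R // algebraMap R Ω a ≠ 0}) (r : R) :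
    locMap (Ω := Ω) a (algebraMap R _ r) = algebraMap R (towerStage (Ω := Ω) a.1) r :=
  IsLocalization.Away.lift_eq _ _ r

theorem locMap_isIntegral (a : {a : R // algebraMap R Ω a ≠ 0}) : (locMap (Ω := Ω) a).IsIntegral := by
  intro x
  let f : Localization.Away a.1 →+* Ω := (towerStage (Ω := Ω) a.1).val.toRingHom.comp (locMap a)
  have hrange : ∀ s : locImage (Ω := Ω) a.1, (s : Ω) ∈ f.range := fun ⟨s, hs⟩ => by
    induction hs using Algebra.adjoin_induction with
    | mem z hz =>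
      rw [Set.mem_singleton_iff] at hz
      refine ⟨IsLocalization.Away.invSelf a.1, ?_⟩
      have e : algebraMap R Ω a.1 * f (IsLocalization.Away.invSelf a.1) = 1 := by
        have : f (algebraMap R _ a.1) = algebraMap R Ω a.1 :=
          congrArg Subtype.val (locMap_algebraMap a a.1)
        rw [← this, ← map_mul, IsLocalization.Away.mul_invSelf, map_one]
      exact hz ▸ eq_inv_of_mul_eq_one_right e
    | algebraMap r => exact ⟨algebraMap R _ r, congrArg Subtype.val (locMap_algebraMap a r)⟩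
    | add _ _ _ _ h₁ h₂ => exact add_mem h₁ h₂
    | mul _ _ _ _ h₁ h₂ => exact mul_mem h₁ h₂
  obtain ⟨p, hp, hpx⟩ := mem_towerStage.1 x.2
  have hl : p.map (algebraMap (locImage (Ω := Ω) a.1) Ω) ∈ Polynomial.lifts f := by
    rw [Polynomial.lifts_iff_coeff_lifts]
    intro i
    rw [Polynomial.coeff_map]
    exact hrange _
  obtain ⟨q, hq, -, hqm⟩ := Polynomial.lifts_and_degree_eq_and_monic hl (hp.map _)
  refine ⟨q, hqm, Subtype.val_injective ?_⟩
  refine ((Polynomial.hom_eval₂ q (locMap a) (towerStage (Ω := Ω) a.1).val.toRingHom x).trans ?_)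
  change q.eval₂ f (x : Ω) = 0
  rw [← Polynomial.eval_map, hq, Polynomial.eval_map, hpx]

end Rings

section Limit

set_option backward.isDefEq.respectTransparency.types false

variable (M : Type) [AddCommGroup M]

theorem HpullVia_const {X Y Z : Scheme.{u}} (k : X ⟶ Y) (t : Y ⟶ Z) (f₀ : X ⟶ Z) (w : k ≫ t = f₀)
    [PreservesFiniteLimits (EtCoh.pull k)] (n : ℕ) (y : EtCoh.H Y ((EtCoh.pull t).obj (EtCoh.const Z M)) n) :
    (EtCoh.HF X n).map (EtCore.pullConst f₀ M).hom (EtCore.HpullVia k t f₀ w (EtCoh.const Z M) n y) =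
      HC M k n ((EtCoh.HF Y n).map (EtCore.pullConst t M).hom y) := by
  subst w
  haveI := pullExact t
  rw [HC_eq, Hpull_natural, HpullVia_def]
  refine (HF_map2 n _ _ _).symm.trans (Eq.trans ?_ (HF_map2 n _ _ _))
  refine congrArg (fun m => (EtCoh.HF X n).map m (EtCore.Hpull k _ n y)) ?_
  rw [EtAdicLib.pullConst_comp_hom]
  simp [EtCore.pullCongr]

variable {ι : Type u} [Preorder ι] [IsDirected ι (· ≤ ·)] (Xs : ιᵒᵖ ⥤ Scheme.{u})
  (haff : ∀ ⦃a b : ιᵒᵖ⦄ (h : a ⟶ b), IsAffineHom (Xs.map h))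
  (hqc : ∀ a, CompactSpace ↥(Xs.obj a)) (hqs : ∀ a, QuasiSeparatedSpace ↥(Xs.obj a))
  (c : Cone Xs) (hc : IsLimit c)

include haff hqc hqs hc in
/-- every constant-coefficient class on the limit comes from a stage -/
theorem exists_HC (i₀ : ι) (p : ℕ) (ξ : EtCoh.H c.pt (EtCoh.const c.pt M) p) :
    ∃ (j : ι) (x : EtCoh.H (Xs.obj (op j)) (EtCoh.const (Xs.obj (op j)) M) p),
      HC M (c.π.app (op j)) p x = ξ := by
  haveI := fun a => pullExact (c.π.app a)
  haveI := fun {a b : ιᵒᵖ} (h : a ⟶ b) => pullExact (Xs.map h)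
  obtain ⟨j, hj, y, hy⟩ := (S0646.result Xs haff hqc hqs c hc i₀ (EtCoh.const (Xs.obj (op i₀)) M) p).1
    ((EtCoh.HF c.pt p).map (EtCore.pullConst (c.π.app (op i₀)) M).inv ξ)
  refine ⟨j, (EtCoh.HF _ p).map (EtCore.pullConst (Xs.map (homOfLE hj).op) M).hom y, ?_⟩
  rw [← HpullVia_const M (c.π.app (op j)) (Xs.map (homOfLE hj).op) (c.π.app (op i₀))
    (c.w (homOfLE hj).op), hy]
  refine (HF_map2 p _ _ ξ).symm.trans ?_
  rw [Iso.inv_hom_id, CategoryTheory.Functor.map_id]; rfl

end Limit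

end Groth.Agent.EtBCA.GeomFib
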